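import Groth.Agent.ValPrufer.DimFun
import Groth.Agent.FibDim.RelDim
import Groth.Agent.FibDim.Open
import Groth.Agent.FibDim.GenerizeDim
import Groth.Agent.DimFormula.Fibre
import Groth.Agent.FlatDvr.DimFibre
import Mathlib

/-! The dimension formula for essentially finite type local domains over an arbitrary domain. -/

set_option autoImplicit false
universe u

namespace Groth.Agent.LocDimFormula

open AlgebraicGeometry CategoryTheory Limits TensorProduct
open Groth.Agent.ValPrufer.DimFun (str)

variable {A C : Type u} [CommRing A] [CommRing C] [IsDomain A] [IsDomain C] [Algebra A C]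
  [Algebra.FiniteType A C]

theorem range_eq {P Q R S : Scheme.{u}} {h : P ⟶ Q} {v : P ⟶ R} {a : Q ⟶ S} {b : R ⟶ S}
    (hc : IsPullback h v a b) : Set.range h = a ⁻¹' Set.range b := by
  rw [← Scheme.Pullback.range_fst a b, ← hc.isoPullback_hom_fst]
  ext z
  constructor
  · rintro ⟨t, rfl⟩; exact ⟨hc.isoPullback.hom t, (Scheme.Hom.comp_apply ..).symm⟩
  · rintro ⟨t, rfl⟩
    obtain ⟨t, rfl⟩ := hc.isoPullback.hom.surjective t
    exact ⟨t, Scheme.Hom.comp_apply ..⟩

/-- The generic point. -/
noncomputable def gen (C : Type u) [CommRing C] [IsDomain C] : Spec (CommRingCat.of C) :=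
  (⟨⊥, Ideal.isPrime_bot⟩ : PrimeSpectrum C)

theorem gen_specializes (z : Spec (CommRingCat.of C)) : gen C ⤳ z :=
  (PrimeSpectrum.le_iff_specializes (⟨⊥, Ideal.isPrime_bot⟩ : PrimeSpectrum C) z).1 bot_le

set_option maxHeartbeats 1000000 in
set_option backward.isDefEq.respectTransparency.types false in
/-- Where the localisation is flat, the fibre dimension is the generic one. -/
theorem fibreDimAt_eq (hinj : Function.Injective (algebraMap A C)) (q : PrimeSpectrum C)
    (B : Type u) [CommRing B] [Algebra A B] [Algebra C B] [IsScalarTower A C B]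
    [IsLocalization.AtPrime B q.asIdeal] [Module.Flat A B] :
    FlatMor.fibreDimAt (str A C) (q : Spec (CommRingCat.of C)) =
      ((FibDim.rd (str A C) (gen C) : ℕ∞) : WithBot ℕ∞) := by
  let f := str A C
  have hgen : f (gen C) = gen A :=
    PrimeSpectrum.ext (Ideal.comap_bot_of_injective _ hinj)
  have hle : ∀ z, f z = gen A → FibDim.rd f z ≤ FibDim.rd f (gen C) := fun z hz =>
    FibDim.rd_le_of_specializes f (gen_specializes z) (hgen.trans hz.symm)
  refine le_antisymm ?_ (FibDim.fibreDimAt_ge_rd f (gen_specializes (q : Spec (CommRingCat.of C))))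
  obtain ⟨z, -, hfz, -, he⟩ := FibDim.exists_fibMax_generization f (q : Spec (CommRingCat.of C))
  by_cases hp : f (q : Spec (CommRingCat.of C)) = gen A
  · rw [he]; exact_mod_cast hle z (hfz.trans hp)
  obtain ⟨V, _, _, _, τ, pt, ηV, hpt, hη, hηV⟩ :=
    FibDim.exists_valuation_lift (gen_specializes (C := A) (f (q : Spec (CommRingCat.of C)))) hp
  obtain ⟨x', hx1, hx2⟩ := Scheme.Pullback.exists_preimage_pullback (f := f) (g := τ)
    (q : Spec (CommRingCat.of C)) pt hpt.symm
  haveI : LocallyOfFiniteType (pullback.snd f τ) := MorphismProperty.pullback_snd _ _ inferInstance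
  have hbc := IsPullback.of_hasPullback f τ
  obtain ⟨z', hz', hz'pt, -, he'⟩ := FibDim.exists_fibMax_generization (pullback.snd f τ) x'
  let ι : Spec (CommRingCat.of B) ⟶ Spec (CommRingCat.of C) :=
    Spec.map (CommRingCat.ofHom (algebraMap C B))
  let fB : Spec (CommRingCat.of B) ⟶ Spec (CommRingCat.of A) :=
    Spec.map (CommRingCat.ofHom (algebraMap A B))
  have hιf : ι ≫ f = fB := by
    show Spec.map _ ≫ Spec.map _ = _
    rw [← Spec.map_comp, ← CommRingCat.ofHom_comp, ← IsScalarTower.algebraMap_eq]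
  haveI : Flat fB := HasRingHomProperty.Spec_iff.2 (RingHom.flat_algebraMap_iff.2 inferInstance)
  let k : pullback fB τ ⟶ pullback f τ :=
    pullback.map _ _ _ _ ι (𝟙 _) (𝟙 _) (by rw [Category.comp_id, hιf]) (by simp)
  have hks : k ≫ pullback.snd f τ = pullback.snd fB τ :=
    (pullback.lift_snd ..).trans (Category.comp_id _)
  have hk : IsPullback k (pullback.fst fB τ) (pullback.fst f τ) ι :=
    IsPullback.of_right (by rw [hks, hιf]; exact (IsPullback.of_hasPullback fB τ).flip)
      (pullback.lift_fst ..) hbc.flip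
  obtain ⟨w, rfl⟩ : z' ∈ Set.range k := by
    rw [range_eq hk]
    have hsp : pullback.fst f τ z' ⤳ (q : Spec (CommRingCat.of C)) :=
      hx1 ▸ hz'.map (pullback.fst f τ).continuous
    refine ⟨⟨(PrimeSpectrum.asIdeal (pullback.fst f τ z')).map (algebraMap C B), ?_⟩, PrimeSpectrum.ext ?_⟩
    · exact IsLocalization.isPrime_of_isPrime_disjoint q.asIdeal.primeCompl B _
        (PrimeSpectrum.isPrime (pullback.fst f τ z'))
        (Set.disjoint_left.2 fun a ha ha' =>
          ha ((PrimeSpectrum.le_iff_specializes (pullback.fst f τ z' : PrimeSpectrum C) q).2 hsp ha'))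
    · exact IsLocalization.under_map_of_isPrime_disjoint q.asIdeal.primeCompl B
        (PrimeSpectrum.isPrime (pullback.fst f τ z'))
        (Set.disjoint_left.2 fun a ha ha' =>
          ha ((PrimeSpectrum.le_iff_specializes (pullback.fst f τ z' : PrimeSpectrum C) q).2 hsp ha'))
  haveI : Flat (pullback.snd fB τ) := MorphismProperty.pullback_snd _ _ inferInstance
  obtain ⟨ζ, hζ, hfζ⟩ := Flat.generalizingMap (pullback.snd fB τ) (hηV (pullback.snd fB τ w))
  have h1 : FibDim.rd (pullback.snd f τ) (k w) ≤ FibDim.rd (pullback.snd f τ) (k ζ) := by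
    refine FibDim.rd_le_of_valuationRing (pullback.snd f τ) (hζ.map k.continuous) fun y => ?_
    rw [← Scheme.Hom.comp_apply, hks, hfζ]
    exact hηV y
  have h2 : ((FibDim.rd (pullback.snd f τ) (k ζ) : ℕ∞) : WithBot ℕ∞) ≤
      FlatMor.fibreDimAt (pullback.snd f τ) (k ζ) :=
    FibDim.rd_le_fibreDimAt _ (specializes_refl _) rfl
  rw [FibDim.fibreDimAt_baseChange hbc] at h2
  obtain ⟨v, -, hfv, -, hev⟩ := FibDim.exists_fibMax_generization f (pullback.fst f τ (k ζ))
  have hgenA : f (pullback.fst f τ (k ζ)) = gen A := by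
    rw [← Scheme.Hom.comp_apply, pullback.condition, Scheme.Hom.comp_apply,
      ← Scheme.Hom.comp_apply k, hks, hfζ, hη]
  rw [hev] at h2
  have h3 := hle v (hfv.trans hgenA)
  have h4 : FibDim.rd (pullback.snd f τ) (k ζ) ≤ FibDim.rd f v := by exact_mod_cast h2
  rw [← hx1, ← FibDim.fibreDimAt_baseChange hbc, he']
  exact_mod_cast h1.trans (h4.trans h3)

theorem trdeg_eq_of_isLocalization {R S L : Type u} [CommRing R] [CommRing S] [CommRing L] [IsDomain S]
    [IsDomain L] [Algebra R S] [Algebra R L] [Algebra S L] [IsScalarTower R S L] [Nontrivial R]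
    [FaithfulSMul R S] [FaithfulSMul S L] (M : Submonoid S) [IsLocalization M L] :
    Algebra.trdeg R L = Algebra.trdeg R S := by
  haveI := IsLocalization.isAlgebraic L M
  rw [← trdeg_add_eq R S (A := L), trdeg_eq_zero (R := S) (A := L), add_zero]

/-- The relative dimension at a point is the transcendence degree of the residue extension. -/
theorem rd_eq_trdeg (q : PrimeSpectrum C) (p : Ideal A) [p.IsPrime] (hp : q.asIdeal.under A = p)
    (K : Type u) [Field K] [Algebra C K] [Algebra A K] [Algebra (A ⧸ p) K]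
    [IsScalarTower A C K] [IsScalarTower A (A ⧸ p) K] (hK : RingHom.ker (algebraMap C K) = q.asIdeal)
    (hK' : ∀ z : K, ∃ a b : C, algebraMap C K b ≠ 0 ∧ z * algebraMap C K b = algebraMap C K a) :
    (FibDim.rd (str A C) (q : Spec (CommRingCat.of C)) : Cardinal.{u}) = Algebra.trdeg (A ⧸ p) K := by
  letI : Algebra (A ⧸ p) (C ⧸ q.asIdeal) := Ideal.Quotient.algebraQuotientOfLEComap hp.ge
  haveI : IsScalarTower A (A ⧸ p) (C ⧸ q.asIdeal) := IsScalarTower.of_algebraMap_eq fun _ => rfl
  rw [Groth.Agent.ValPrufer.DimFun.rd_eq_fd, DimFormula.fd_eq_trdeg A (C := C ⧸ q.asIdeal) p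
    (Ideal.Quotient.mkₐ A q.asIdeal) Ideal.Quotient.mk_surjective q.asIdeal Ideal.mk_ker hp]
  letI : Algebra (C ⧸ q.asIdeal) K :=
    (Ideal.Quotient.lift q.asIdeal (algebraMap C K) fun x hx => by
      rwa [← hK] at hx).toAlgebra
  haveI : IsScalarTower (A ⧸ p) (C ⧸ q.asIdeal) K := IsScalarTower.of_algebraMap_eq fun x => by
    obtain ⟨x, rfl⟩ := Ideal.Quotient.mk_surjective x
    show algebraMap (A ⧸ p) K (algebraMap A (A ⧸ p) x) = algebraMap C K (algebraMap A C x)
    rw [← IsScalarTower.algebraMap_apply, ← IsScalarTower.algebraMap_apply]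
  haveI : FaithfulSMul (C ⧸ q.asIdeal) K := (faithfulSMul_iff_algebraMap_injective _ _).2
    (RingHom.lift_injective_of_ker_le_ideal _ _ hK.le)
  haveI : FaithfulSMul (A ⧸ p) (C ⧸ q.asIdeal) := (faithfulSMul_iff_algebraMap_injective _ _).2
    (Ideal.quotientMap_injective' hp.le)
  haveI : Algebra.IsAlgebraic (C ⧸ q.asIdeal) K := ⟨fun z => by
    obtain ⟨a, b, hb, hz⟩ := hK' z
    refine ⟨Polynomial.C (Ideal.Quotient.mk q.asIdeal b) * Polynomial.X -
      Polynomial.C (Ideal.Quotient.mk q.asIdeal a), ?_, ?_⟩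
    · intro h0
      have := congrArg (fun P => Polynomial.coeff P 1) h0
      simp at this
      exact hb (by rwa [← RingHom.mem_ker, hK, ← Ideal.Quotient.eq_zero_iff_mem])
    · simp only [map_sub, map_mul, Polynomial.aeval_C, Polynomial.aeval_X]
      show algebraMap C K b * z - algebraMap C K a = 0
      rw [mul_comm, hz, sub_self]⟩
  have h1 := trdeg_add_eq (A ⧸ p) (C ⧸ q.asIdeal) (A := K)
  rwa [trdeg_eq_zero (R := C ⧸ q.asIdeal) (A := K), add_zero] at h1

theorem quot_equiv_of_compat {R S OY OX B : Type u} [CommRing R] [CommRing S] [CommRing OY] [CommRing OX]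
    [CommRing B] [Algebra R S] [Algebra R OY] [Algebra S OX] [Algebra S B] [Algebra R B] [IsScalarTower R S B]
    [IsLocalRing OY] (p : Ideal R) [p.IsPrime] [IsLocalization.AtPrime OY p] (q : Ideal S) [q.IsPrime]
    [IsLocalization.AtPrime OX q] [IsLocalization.AtPrime B q] (φ : OY →+* OX)
    (hφ : ∀ a, φ (algebraMap R OY a) = algebraMap S OX (algebraMap R S a)) :
    ringKrullDim (OX ⧸ (IsLocalRing.maximalIdeal OY).map φ) = ringKrullDim (B ⧸ p.map (algebraMap R B)) := by
  let σ : OX ≃ₐ[S] B := IsLocalization.algEquiv q.primeCompl OX B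
  refine ringKrullDim_eq_of_ringEquiv (Ideal.quotientEquiv _ _ σ.toRingEquiv ?_)
  rw [← IsLocalization.AtPrime.map_eq_maximalIdeal p OY, Ideal.map_map, Ideal.map_map]
  congr 1
  ext x
  show algebraMap R B x = σ (φ (algebraMap R OY x))
  rw [hφ, σ.commutes, ← IsScalarTower.algebraMap_apply]

set_option backward.isDefEq.respectTransparency.types false in
/-- The local ring of the fibre through `q`. -/
theorem fb_eq (q : PrimeSpectrum C) (B : Type u) [CommRing B] [Algebra A B] [Algebra C B]
    [IsScalarTower A C B] [IsLocalization.AtPrime B q.asIdeal] :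
    ringKrullDim (B ⧸ (q.asIdeal.under A).map (algebraMap A B)) =
      (DimFormula.fb (str A C) (q : Spec (CommRingCat.of C)) : WithBot ℕ∞) := by
  rw [← DimFormula.ringKrullDim_stalk_fibre, FlatDvr.ringKrullDim_stalk_fibre,
    Scheme.Hom.fiberι_asFiber]
  let x : Spec (CommRingCat.of C) := q
  letI : Algebra C ((Spec (CommRingCat.of C)).presheaf.stalk x) := StructureSheaf.stalkAlgebra C q
  haveI : IsLocalization.AtPrime ((Spec (CommRingCat.of C)).presheaf.stalk x) q.asIdeal :=
    StructureSheaf.IsLocalization.to_stalk (CommRingCat.of C) q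
  let y : Spec (CommRingCat.of A) := str A C x
  letI : Algebra A ((Spec (CommRingCat.of A)).presheaf.stalk y) :=
    StructureSheaf.stalkAlgebra A (PrimeSpectrum.comap (algebraMap A C) q)
  haveI : IsLocalization.AtPrime ((Spec (CommRingCat.of A)).presheaf.stalk y) (q.asIdeal.under A) :=
    StructureSheaf.IsLocalization.to_stalk (CommRingCat.of A) (PrimeSpectrum.comap (algebraMap A C) q)
  exact (quot_equiv_of_compat (B := B) (q.asIdeal.under A) q.asIdeal ((str A C).stalkMap x).hom
    fun a => DFunLike.congr_fun (congrArg CommRingCat.Hom.hom (AlgebraicGeometry.stalkMap_toStalk (CommRingCat.ofHom (algebraMap A C)) q)) a).symm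

end Groth.Agent.LocDimFormula
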