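import Groth.Agent.LocDimFormula.Basic
import Groth.Agent.DimFormula.ClosedSub
import Groth.Agent.DimFormula.Stalk
import Groth.Agent.FibDim.FlatBC
import Groth.Agent.FlatLoc6.RegCM
import Groth.Agent.PopescuLib.IndCatenary
import Groth.Agent.S0603
import Mathlib

/-! A horizontal element keeps the base injective in the quotient. -/

set_option autoImplicit false
universe u

namespace Groth.Agent.LocDimFormula

open AlgebraicGeometry CategoryTheory Limits TensorProduct
open Groth.Agent.ValPrufer.DimFun (str)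

theorem isUniversallyCatenary_stalk_of_finiteType_int {A : Type u} [CommRing A]
    [Algebra (ULift.{u} ℤ) A] [Algebra.FiniteType (ULift.{u} ℤ) A] (y : Spec (CommRingCat.of A)) :
    CAlg.IsUniversallyCatenary ((Spec (CommRingCat.of A)).presheaf.stalk y) := by
  haveI : IsRegularRing (ULift.{u} ℤ) := IsRegularRing.of_ringEquiv (R := ℤ) ULift.ringEquiv.symm
  haveI := FlatLoc6.isCM_of_isRegularRing (ULift.{u} ℤ)
  letI : Algebra A ((Spec (CommRingCat.of A)).presheaf.stalk y) := StructureSheaf.stalkAlgebra A y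
  haveI : IsLocalization.AtPrime ((Spec (CommRingCat.of A)).presheaf.stalk y) (PrimeSpectrum.asIdeal y) :=
    StructureSheaf.IsLocalization.to_stalk (CommRingCat.of A) y
  exact DimFormula.isUniversallyCatenary_localization
    (PopescuLib.isUniversallyCatenary_of_finiteType (R := ULift.{u} ℤ) (S0603.result (ULift.{u} ℤ)))
    (PrimeSpectrum.asIdeal y).primeCompl _

set_option maxHeartbeats 1000000 in
set_option backward.isDefEq.respectTransparency.types false in
/-- Above a point, a non-unit of the local ring vanishes at a point of almost maximal codimension. -/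
theorem exists_cd_ge {C : Type u} [CommRing C] [IsNoetherianRing C] (x : Spec (CommRingCat.of C)) (g : C)
    (hg : g ∈ PrimeSpectrum.asIdeal x) :
    ∃ P : Spec (CommRingCat.of C), P ⤳ x ∧ g ∈ PrimeSpectrum.asIdeal P ∧
      DimFormula.codim x ≤ DimFormula.cd P x + 1 := by
  classical
  let S : Type u := (Spec (CommRingCat.of C)).presheaf.stalk x
  let ρ : C →+* S := (StructureSheaf.toStalk C x).hom
  letI : Algebra C S := StructureSheaf.stalkAlgebra C x
  haveI : IsLocalization.AtPrime S (PrimeSpectrum.asIdeal x) :=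
    StructureSheaf.IsLocalization.to_stalk (CommRingCat.of C) x
  haveI : IsLocallyNoetherian (Spec (CommRingCat.of C)) := inferInstance
  haveI : IsNoetherianRing S := IsLocalization.isNoetherianRing (PrimeSpectrum.asIdeal x).primeCompl S inferInstance
  let gS : S := algebraMap C S g
  have hgS : gS ∈ IsLocalRing.maximalIdeal S :=
    (IsLocalization.AtPrime.to_map_mem_maximal_iff S (PrimeSpectrum.asIdeal x) g).2 hg
  have h1 := ringKrullDim_le_ringKrullDim_quotient_add_card (R := S) {gS}
    (by simpa [IsLocalRing.ringJacobson_eq_maximalIdeal] using hgS)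
  rw [Finset.coe_singleton, Finset.card_singleton] at h1
  haveI : Nontrivial (S ⧸ Ideal.span {gS}) := Ideal.Quotient.nontrivial_iff.2 (fun h =>
    (IsLocalRing.maximalIdeal.isMaximal S).ne_top (top_le_iff.1 (h.ge.trans ((Ideal.span_singleton_le_iff_mem _).2 hgS))))
  obtain ⟨a, ha, hdim⟩ : ∃ a : PrimeSpectrum S, gS ∈ a.asIdeal ∧
      ringKrullDim (S ⧸ Ideal.span {gS}) ≤ ringKrullDim (S ⧸ a.asIdeal) := by
    haveI : IsLocalRing (S ⧸ Ideal.span {gS}) := IsLocalRing.of_surjective' _ Ideal.Quotient.mk_surjective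
    obtain ⟨n, hn⟩ : ∃ n : ℕ, ringKrullDim (S ⧸ Ideal.span {gS}) = n := by
      obtain ⟨e, he⟩ := WithBot.ne_bot_iff_exists.1 (ringKrullDim_ne_bot (R := S ⧸ Ideal.span {gS}))
      obtain ⟨n, rfl⟩ := ENat.ne_top_iff_exists.1 (show e ≠ ⊤ from fun h => by
        have := ringKrullDim_lt_top (R := S ⧸ Ideal.span {gS})
        rw [← he, h] at this; exact lt_irrefl _ this)
      exact ⟨n, he.symm⟩
    have h2 := hn.ge
    rw [ringKrullDim_quotient, Order.le_krullDim_iff] at h2
    obtain ⟨l, hl⟩ := h2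
    refine ⟨l.head.1, l.head.2 (Ideal.mem_span_singleton_self gS), ?_⟩
    rw [hn, ringKrullDim_quotient, Order.le_krullDim_iff]
    exact ⟨LTSeries.mk l.length (fun i => ⟨(l i).1, fun z hz => LTSeries.head_le l i hz⟩)
      fun i j hij => l.strictMono hij, hl⟩
  refine ⟨(Spec (CommRingCat.of C)).fromSpecStalk x a, DimFormula.fromSpecStalk_specializes x a, ?_, ?_⟩
  · rw [Spec.fromSpecStalk_eq']
    exact ha
  · have h3 : ringKrullDim S = (DimFormula.codim x : WithBot ℕ∞) := DimFormula.ringKrullDim_stalk x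
    have h4 := h1.trans (add_le_add_left hdim _)
    rw [h3, DimFormula.ringKrullDim_stalk_quotient] at h4
    exact_mod_cast h4

variable {A C : Type u} [CommRing A] [CommRing C] [IsDomain A] [IsDomain C] [Algebra A C]
  [Algebra.FiniteType A C]

set_option maxHeartbeats 1000000 in
set_option backward.isDefEq.respectTransparency.types false in
/-- The Noetherian case. -/
theorem false_of_mul_eq [IsNoetherianRing A] (hinj : Function.Injective (algebraMap A C))
    (x : Spec (CommRingCat.of C))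
    (hcat : CAlg.IsUniversallyCatenary ((Spec (CommRingCat.of A)).presheaf.stalk (str A C x)))
    (hn : FlatMor.fibreDimAt (str A C) x = ((FibDim.rd (str A C) (gen C) : ℕ∞) : WithBot ℕ∞))
    (g : C) (hg : g ∈ PrimeSpectrum.asIdeal x)
    (hcomp : ∀ z, z ⤳ x → str A C z = str A C x → FibDim.FibMax (str A C) z →
      g ∉ PrimeSpectrum.asIdeal z)
    (a : A) (ha : a ≠ 0) (s c : C) (hs : s ∉ PrimeSpectrum.asIdeal x)
    (he : algebraMap A C a * s = g * c) : False := by
  let f := str A C
  haveI : IsNoetherianRing C := Algebra.FiniteType.isNoetherianRing A C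
  haveI : IsLocallyNoetherian (Spec (CommRingCat.of A)) := inferInstance
  haveI : IsLocallyNoetherian (Spec (CommRingCat.of C)) := inferInstance
  haveI : IsDomain (CommRingCat.of C) := ‹_›
  haveI : IsDomain (CommRingCat.of A) := ‹_›
  have hgenC : genericPoint (Spec (CommRingCat.of C)) = gen C :=
    ((genericPoint_spec _).specializes (Set.mem_univ (gen C))).antisymm (gen_specializes _) |>.eq
  have hgenA : genericPoint (Spec (CommRingCat.of A)) = gen A :=
    ((genericPoint_spec _).specializes (Set.mem_univ (gen A))).antisymm (gen_specializes _) |>.eq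
  obtain ⟨P, hP, hgP, hcd⟩ := exists_cd_ge x g hg
  have hsP : s ∉ PrimeSpectrum.asIdeal P := fun h =>
    hs ((PrimeSpectrum.le_iff_specializes (P : PrimeSpectrum C) x).2 hP h)
  have haP : algebraMap A C a ∈ PrimeSpectrum.asIdeal P :=
    ((PrimeSpectrum.isPrime P).mem_or_mem (by rw [he]; exact Ideal.mul_mem_right _ _ hgP)).resolve_right hsP
  have hfP : gen A ≠ f P := fun h => ha (by
    have h' : a ∈ (PrimeSpectrum.asIdeal (f P)) := haP
    rw [← h] at h'; exact h')
  -- a point of the fibre through `x`, below `P`, and not generic in it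
  obtain ⟨z, hPz, hzx, hfz, hrd⟩ := FibDim.exists_rd_ge f hP
  obtain ⟨w, hwz, hfw, hwmax, -⟩ := FibDim.exists_fibMax_generization f z
  have hgz : g ∈ PrimeSpectrum.asIdeal z :=
    (PrimeSpectrum.le_iff_specializes (P : PrimeSpectrum C) z).2 hPz hgP
  have hne : w ≠ z := fun h => hcomp w (hwz.trans hzx) (hfw.trans hfz) hwmax (h ▸ hgz)
  have hlt := FibDim.rd_lt f hwz hne hfw
  have hle := FibDim.rd_le_fibreDimAt f (hwz.trans hzx) (hfw.trans hfz)
  rw [hn] at hle
  have hle' : FibDim.rd f w ≤ FibDim.rd f (gen C) := by exact_mod_cast hle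
  -- the dimension formulas
  have h1 := (DimFormula.cd_formula f hP).1
  have h2 := (DimFormula.cd_formula f (gen_specializes x)).2 hcat
  rw [← hgenC] at h2
  rw [DimFormula.cd_eq_codim_of_irreducible, hgenC] at h2
  rw [show f (gen C) = gen A from PrimeSpectrum.ext (Ideal.comap_bot_of_injective _ hinj)] at h2
  have h3 := DimFormula.cd_add_cd_le (hP.map f.continuous) (gen_specializes (f P))
  have h4 : DimFormula.cd (gen A) (f P) ≠ 0 := fun h =>
    hfP ((DimFormula.cd_eq_zero_iff (gen_specializes (f P))).1 h)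
  omega

set_option maxHeartbeats 1000000 in
set_option backward.isDefEq.respectTransparency.types false in
/-- Horizontal elements, over an arbitrary domain. -/
theorem eq_zero_of_mul_eq (hinj : Function.Injective (algebraMap A C)) (x : Spec (CommRingCat.of C))
    (hn : FlatMor.fibreDimAt (str A C) x = ((FibDim.rd (str A C) (gen C) : ℕ∞) : WithBot ℕ∞))
    (g : C) (hg : g ∈ PrimeSpectrum.asIdeal x)
    (hcomp : ∀ z, z ⤳ x → str A C z = str A C x → FibDim.FibMax (str A C) z →
      g ∉ PrimeSpectrum.asIdeal z)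
    (a : A) (s c : C) (hs : s ∉ PrimeSpectrum.asIdeal x)
    (he : algebraMap A C a * s = g * c) : a = 0 := by
  classical
  by_contra ha
  obtain ⟨N, π, hπ⟩ := Algebra.FiniteType.iff_quotient_mvPolynomial''.1 ‹Algebra.FiniteType A C›
  let T := MvPolynomial (Fin N) A
  let I : Ideal T := RingHom.ker π.toRingHom
  let p : PrimeSpectrum A := PrimeSpectrum.comap (algebraMap A C) x
  have hfg : ∀ (k : Type u) [Field k] [Algebra A k], ∃ F : Finset T, (F : Set T) ⊆ I ∧
      I.map (MvPolynomial.map (algebraMap A k)) ≤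
        Ideal.span (MvPolynomial.map (algebraMap A k) '' (F : Set T)) := by
    intro k _ _
    obtain ⟨t, ht⟩ := (IsNoetherian.noetherian (I.map (MvPolynomial.map (algebraMap A k))) :
      (I.map (MvPolynomial.map (algebraMap A k))).FG)
    have hsp : ∀ {z : MvPolynomial (Fin N) k}, z ∈ I.map (MvPolynomial.map (algebraMap A k)) →
        ∃ T' : Finset (MvPolynomial (Fin N) k), (T' : Set _) ⊆ MvPolynomial.map (algebraMap A k) '' (I : Set T) ∧
          z ∈ Submodule.span (MvPolynomial (Fin N) k) (T' : Set (MvPolynomial (Fin N) k)) :=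
      fun h => Submodule.mem_span_finite_of_mem_span h
    choose T' hT' hzT' using fun z : (t : Set (MvPolynomial (Fin N) k)) =>
      hsp (show (z : MvPolynomial (Fin N) k) ∈ I.map (MvPolynomial.map (algebraMap A k)) from
        ht ▸ Submodule.subset_span z.2)
    choose pre hpre hpre' using fun z : (Finset.univ.biUnion T' : Finset _) =>
      show (z : MvPolynomial (Fin N) k) ∈ MvPolynomial.map (algebraMap A k) '' (I : Set T) by
        obtain ⟨i, -, hi⟩ := Finset.mem_biUnion.1 z.2
        exact hT' i hi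
    refine ⟨Finset.univ.image pre, ?_, ?_⟩
    · intro w hw
      simp only [Finset.coe_image, Finset.coe_univ, Set.image_univ, Set.mem_range] at hw
      obtain ⟨z, rfl⟩ := hw
      exact hpre z
    · rw [← ht, Submodule.span_le]
      intro z hz
      refine Submodule.span_mono ?_ (hzT' ⟨z, hz⟩)
      intro w hw
      exact ⟨pre ⟨w, Finset.mem_biUnion.2 ⟨_, Finset.mem_univ _, hw⟩⟩, by simp, hpre' _⟩
  obtain ⟨F₁, hF₁, hspan₁⟩ := hfg p.asIdeal.ResidueField
  obtain ⟨F₂, hF₂, hspan₂⟩ := hfg (FractionRing A)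
  obtain ⟨gT, hgT⟩ := hπ g
  obtain ⟨sT, hsT⟩ := hπ s
  obtain ⟨cT, hcT⟩ := hπ c
  let G : Finset A := ({a} : Finset A) ∪
    (F₁ ∪ F₂ ∪ {gT, sT, cT}).biUnion fun P => P.support.image fun d => P.coeff d
  letI : Algebra (ULift.{u} ℤ) A := ((Int.castRingHom A).comp ULift.ringEquiv.toRingHom).toAlgebra
  let A₀ := Algebra.adjoin (ULift.{u} ℤ) (G : Set A)
  haveI : Algebra.FiniteType (ULift.{u} ℤ) A₀ :=
    A₀.fg_iff_finiteType.1 ⟨G, rfl⟩
  haveI : IsNoetherianRing (ULift.{u} ℤ) := isNoetherianRing_of_ringEquiv ℤ ULift.ringEquiv.symm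
  haveI : IsNoetherianRing A₀ := Algebra.FiniteType.isNoetherianRing (ULift.{u} ℤ) A₀
  have hrange : ∀ P ∈ F₁ ∪ F₂ ∪ {gT, sT, cT}, ∃ P₀ : MvPolynomial (Fin N) A₀,
      MvPolynomial.map (algebraMap A₀ A) P₀ = P := fun P hP =>
    MvPolynomial.mem_range_map_iff_coeffs_subset.2 fun z hz => by
      obtain ⟨d, hd, rfl⟩ := MvPolynomial.mem_coeffs_iff.1 hz
      exact ⟨⟨_, Algebra.subset_adjoin (Finset.mem_union_right _
        (Finset.mem_biUnion.2 ⟨P, hP, Finset.mem_image_of_mem _ hd⟩))⟩, rfl⟩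
  let φ : MvPolynomial (Fin N) A₀ →ₐ[A₀] C :=
    MvPolynomial.aeval fun i => π (MvPolynomial.X i)
  have hφ : ∀ P₀, φ P₀ = π (MvPolynomial.map (algebraMap A₀ A) P₀) := fun P₀ => by
    induction P₀ using MvPolynomial.induction_on with
    | C r =>
      rw [MvPolynomial.aeval_C, MvPolynomial.map_C, MvPolynomial.algHom_C, ← IsScalarTower.algebraMap_apply]
    | add u v hu hv => rw [map_add, map_add, map_add, hu, hv]
    | mul_X u i hu => rw [map_mul, map_mul, map_mul, hu, MvPolynomial.aeval_X, MvPolynomial.map_X]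
  let C₀ := φ.range
  let π₀ : MvPolynomial (Fin N) A₀ →ₐ[A₀] C₀ := φ.rangeRestrict
  haveI : Algebra.FiniteType A₀ C₀ := Algebra.FiniteType.of_surjective π₀ φ.rangeRestrict_surjective
  have hinj₀ : Function.Injective (algebraMap A₀ C₀) := fun u v h =>
    Subtype.val_injective (hinj (by
      have := congrArg Subtype.val h
      exact this))
  let ψ : A ⊗[A₀] C₀ →ₐ[A] C :=
    Algebra.TensorProduct.lift (Algebra.ofId A C) C₀.val fun _ _ => Commute.all _ _
  have hψ : Function.Surjective ψ := by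
    intro y
    obtain ⟨P, rfl⟩ := hπ y
    induction P using MvPolynomial.induction_on with
    | C r => exact ⟨r ⊗ₜ 1, by simp [ψ, MvPolynomial.algHom_C]⟩
    | add u v hu hv =>
      obtain ⟨u', hu'⟩ := hu; obtain ⟨v', hv'⟩ := hv
      exact ⟨u' + v', by rw [map_add, hu', hv', map_add]⟩
    | mul_X u i hu =>
      obtain ⟨u', hu'⟩ := hu
      refine ⟨u' * (1 ⊗ₜ π₀ (MvPolynomial.X i)), ?_⟩
      rw [map_mul, hu', map_mul]
      congr 1
      show algebraMap A C 1 * φ (MvPolynomial.X i) = _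
      rw [map_one, one_mul, MvPolynomial.aeval_X]
  -- the geometry
  let f := str A C
  let f₀ := str A₀ C₀
  let W := Spec (CommRingCat.of (A ⊗[A₀] C₀))
  let fW : W ⟶ Spec (CommRingCat.of A) :=
    Spec.map (CommRingCat.ofHom (algebraMap A (A ⊗[A₀] C₀)))
  let pW : W ⟶ Spec (CommRingCat.of C₀) :=
    Spec.map (CommRingCat.ofHom (Algebra.TensorProduct.includeRight.toRingHom : C₀ →+* A ⊗[A₀] C₀))
  have hsq : IsPullback pW fW f₀ (Spec.map (CommRingCat.ofHom (algebraMap A₀ A))) :=
    (isPullback_SpecMap_of_isPushout _ _ _ _ (CommRingCat.isPushout_tensorProduct A₀ A C₀)).flip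
  haveI : LocallyOfFiniteType fW := MorphismProperty.of_isPullback hsq inferInstance
  let j : Spec (CommRingCat.of C) ⟶ W := Spec.map (CommRingCat.ofHom ψ.toRingHom)
  haveI : IsClosedImmersion j := IsClosedImmersion.spec_of_surjective _ hψ
  have hjf : j ≫ fW = f := by
    show Spec.map _ ≫ Spec.map _ = Spec.map _
    rw [← Spec.map_comp, ← CommRingCat.ofHom_comp]
    congr 2
    exact ψ.comp_algebraMap
  have hrangej : ∀ w : W, (fW w = f x ∨ fW w = gen A) → w ∈ Set.range j := by
    intro w hw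
    let r := PrimeSpectrum.asIdeal w
    let θ : T →ₐ[A] A ⊗[A₀] C₀ := MvPolynomial.aeval fun i => 1 ⊗ₜ π₀ (MvPolynomial.X i)
    have hθψ : ψ.comp θ = π := MvPolynomial.algHom_ext fun i => by
      simp [θ, ψ, π₀, φ]
    have hker : ∀ v, ψ v = 0 → v ∈ r := by
      intro v hv
      obtain ⟨P, rfl⟩ : v ∈ θ.range := by
        clear hv
        induction v using TensorProduct.induction_on with
        | zero => exact zero_mem _
        | add u v hu hv => exact add_mem hu hv
        | tmul b y =>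
          obtain ⟨Q, rfl⟩ := φ.rangeRestrict_surjective y
          refine ⟨MvPolynomial.C b * MvPolynomial.map (algebraMap A₀ A) Q, ?_⟩
          show θ _ = b ⊗ₜ π₀ Q
          have h2 : ∀ Q, θ (MvPolynomial.map (algebraMap A₀ A) Q) = (1 : A) ⊗ₜ[A₀] π₀ Q := fun Q => by
            rw [MvPolynomial.aeval_map_algebraMap]
            exact (MvPolynomial.comp_aeval_apply (MvPolynomial.X : Fin N → MvPolynomial (Fin N) A₀)
              ((Algebra.TensorProduct.includeRight : C₀ →ₐ[A₀] A ⊗[A₀] C₀).comp π₀) Q).symm.trans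
              (by rw [MvPolynomial.aeval_X_left_apply]; rfl)
          rw [map_mul, h2, MvPolynomial.algHom_C, Algebra.TensorProduct.algebraMap_apply,
            Algebra.TensorProduct.tmul_mul_tmul, mul_one, one_mul]
          rfl
      have hPI : P ∈ I := by
        show π P = 0
        rw [← hθψ]; exact hv
      let L := r.ResidueField
      let χ : T →+* L := (algebraMap (A ⊗[A₀] C₀) L).comp θ.toRingHom
      obtain ⟨k, _, _, F, hF, hFI, hspan, ι, hι⟩ : ∃ (k : Type u) (_ : Field k) (_ : Algebra A k)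
          (F : Finset T), (∀ Q ∈ F, Q ∈ F₁ ∪ F₂ ∪ {gT, sT, cT}) ∧ (F : Set T) ⊆ I ∧
          I.map (MvPolynomial.map (algebraMap A k)) ≤
            Ideal.span (MvPolynomial.map (algebraMap A k) '' (F : Set T)) ∧
          ∃ ι : k →+* L, ∀ u, ι (algebraMap A k u) = algebraMap A L u := by
        rcases hw with hw | hw
        · have hp' : p.asIdeal = r.comap (algebraMap A (A ⊗[A₀] C₀)) :=
            (congrArg PrimeSpectrum.asIdeal hw).symm
          exact ⟨p.asIdeal.ResidueField, inferInstance, inferInstance, F₁, fun Q hQ => by simp [hQ],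
            hF₁, hspan₁, Ideal.ResidueField.map _ r _ hp', fun u => Ideal.ResidueField.map_algebraMap _ _ _ hp' u⟩
        · have hinjL : Function.Injective (algebraMap A L) := (RingHom.injective_iff_ker_eq_bot _).2 (by
            rw [IsScalarTower.algebraMap_eq A (A ⊗[A₀] C₀) L, ← RingHom.comap_ker,
              Ideal.ker_algebraMap_residueField]
            exact congrArg PrimeSpectrum.asIdeal hw)
          exact ⟨FractionRing A, inferInstance, inferInstance, F₂, fun Q hQ => by simp [hQ],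
            hF₂, hspan₂, IsFractionRing.lift hinjL, IsFractionRing.lift_algebraMap hinjL⟩
      let ev : MvPolynomial (Fin N) k →+* L :=
        MvPolynomial.eval₂Hom ι fun i => χ (MvPolynomial.X i)
      have hev : ∀ Q, ev (MvPolynomial.map (algebraMap A k) Q) = χ Q := RingHom.congr_fun
        (show ev.comp (MvPolynomial.map (algebraMap A k)) = χ from MvPolynomial.ringHom_ext
          (fun u => by
            show ev (MvPolynomial.map (algebraMap A k) (MvPolynomial.C u)) = algebraMap _ L (θ (MvPolynomial.C u))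
            rw [MvPolynomial.map_C, MvPolynomial.eval₂Hom_C, hι, MvPolynomial.algHom_C,
              ← IsScalarTower.algebraMap_apply])
          (fun i => by
            show ev (MvPolynomial.map (algebraMap A k) (MvPolynomial.X i)) = _
            rw [MvPolynomial.map_X, MvPolynomial.eval₂Hom_X']))
      have hFr : ∀ Q ∈ F, θ Q = 0 := fun Q hQ => by
        obtain ⟨Q₀, rfl⟩ := hrange Q (hF Q hQ)
        rw [MvPolynomial.aeval_map_algebraMap]
        refine (MvPolynomial.comp_aeval_apply (MvPolynomial.X : Fin N → MvPolynomial (Fin N) A₀)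
          ((Algebra.TensorProduct.includeRight : C₀ →ₐ[A₀] A ⊗[A₀] C₀).comp π₀) Q₀).symm.trans ?_
        rw [MvPolynomial.aeval_X_left_apply]
        show (1 : A) ⊗ₜ[A₀] π₀ Q₀ = 0
        rw [show π₀ Q₀ = 0 from Subtype.ext ((hφ Q₀).trans (hFI hQ)), TensorProduct.tmul_zero]
      have hle : Ideal.span (MvPolynomial.map (algebraMap A k) '' (F : Set T)) ≤ RingHom.ker ev := by
        rw [Ideal.span_le]
        rintro _ ⟨Q, hQ, rfl⟩
        show ev _ = 0
        rw [hev]
        show algebraMap _ L (θ Q) = 0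
        rw [hFr Q hQ, map_zero]
      have h6 : ev (MvPolynomial.map (algebraMap A k) P) = 0 := hle (hspan (Ideal.mem_map_of_mem _ hPI))
      rw [hev] at h6
      exact Ideal.algebraMap_residueField_eq_zero.1 h6
    show w ∈ Set.range (PrimeSpectrum.comap ψ.toRingHom)
    rw [range_comap_of_surjective _ _ hψ]
    exact hker
  let jx : W := j x
  have hjsp : ∀ v v', j v ⤳ j v' ↔ v ⤳ v' := fun v v' => j.isEmbedding.isInducing.specializes_iff
  have hfj : ∀ v, fW (j v) = f v := fun v => by rw [← Scheme.Hom.comp_apply, hjf]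
  have hrdj : ∀ v, FibDim.rd fW (j v) = FibDim.rd f v := fun v => by
    rw [← DimFormula.rd_closedSub fW j v, hjf]
  have hdim : ∀ v, (f v = f x ∨ f v = gen A) → FlatMor.fibreDimAt fW (j v) = FlatMor.fibreDimAt f v := by
    intro v hv
    obtain ⟨z, hz, hfz, -, he₁⟩ := FibDim.exists_fibMax_generization fW (j v)
    obtain ⟨y, rfl⟩ := hrangej z (by rw [hfz, hfj]; exact hv)
    obtain ⟨y', hy', hfy', -, he₂⟩ := FibDim.exists_fibMax_generization f v
    refine le_antisymm ?_ ?_
    · rw [he₁, hrdj]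
      exact FibDim.rd_le_fibreDimAt f ((hjsp _ _).1 hz) (by rw [← hfj, hfz, hfj])
    · rw [he₂, ← hrdj]
      exact FibDim.rd_le_fibreDimAt fW ((hjsp _ _).2 hy') (by rw [hfj, hfy', hfj])
  let x₀ : Spec (CommRingCat.of C₀) := pW (j x)
  have hval : ∀ (v : Spec (CommRingCat.of C)) (y : C₀),
      y ∈ PrimeSpectrum.asIdeal (pW (j v)) ↔ (y : C) ∈ PrimeSpectrum.asIdeal v := fun v y => by
    show ψ ((1 : A) ⊗ₜ[A₀] y) ∈ PrimeSpectrum.asIdeal v ↔ _
    rw [Algebra.TensorProduct.lift_tmul, map_one, one_mul]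
    rfl
  have hgen : pW (j (gen C)) = gen C₀ := PrimeSpectrum.ext (Ideal.ext fun y => by
    rw [hval]
    exact ⟨fun h => Subtype.ext h, fun h => congrArg Subtype.val h⟩)
  have hgenf : f (gen C) = gen A := PrimeSpectrum.ext (Ideal.comap_bot_of_injective _ hinj)
  have hgenmax : ∀ {C' A' : Type u} [CommRing C'] [IsDomain C'] [CommRing A'] [Algebra A' C']
      [Algebra.FiniteType A' C'], FlatMor.fibreDimAt (str A' C') (gen C') =
        ((FibDim.rd (str A' C') (gen C') : ℕ∞) : WithBot ℕ∞) := fun {C' A'} _ _ _ _ _ =>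
    FibDim.fibreDimAt_eq_rd _ (FibDim.fibMax_of_maximal _ fun z hz => (hz.antisymm (gen_specializes z)).eq)
  have hn₀ : FlatMor.fibreDimAt f₀ x₀ = ((FibDim.rd f₀ (gen C₀) : ℕ∞) : WithBot ℕ∞) := by
    rw [← FibDim.fibreDimAt_baseChange hsq, hdim x (Or.inl rfl), hn, ← hgenmax, ← hgenmax,
      ← hdim (gen C) (Or.inr hgenf), FibDim.fibreDimAt_baseChange hsq, hgen]
  -- the elements
  obtain ⟨g₁, hg₁⟩ := hrange gT (by simp)
  obtain ⟨s₁, hs₁⟩ := hrange sT (by simp)
  obtain ⟨c₁, hc₁⟩ := hrange cT (by simp)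
  have hg₀ : (π₀ g₁ : C) = g := (hφ g₁).trans (by rw [hg₁, hgT])
  have hs₀ : (π₀ s₁ : C) = s := (hφ s₁).trans (by rw [hs₁, hsT])
  have hc₀ : (π₀ c₁ : C) = c := (hφ c₁).trans (by rw [hc₁, hcT])
  let a₀ : A₀ := ⟨a, Algebra.subset_adjoin (Finset.mem_union_left _ (Finset.mem_singleton_self a))⟩
  refine false_of_mul_eq hinj₀ x₀ (isUniversallyCatenary_stalk_of_finiteType_int _) hn₀ (π₀ g₁)
    ((hval x _).2 (by rw [hg₀]; exact hg)) ?_ a₀ (fun h => ha (congrArg Subtype.val h)) (π₀ s₁) (π₀ c₁)
    (fun h => hs (hs₀ ▸ (hval x _).1 h)) (Subtype.ext (by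
      show algebraMap A C a * (π₀ s₁ : C) = (π₀ g₁ : C) * (π₀ c₁ : C)
      rw [hs₀, hg₀, hc₀, he]))
  intro z₀ hz₀ hfz₀ hmax₀ hgz₀
  have h' : IsPullback (fW.fiberι (fW (j x)) ≫ pW) (fW.fiberToSpecResidueField (fW (j x))) f₀
      ((Spec (CommRingCat.of A)).fromSpecResidueField (fW (j x)) ≫
        Spec.map (CommRingCat.ofHom (algebraMap A₀ A))) :=
    (IsPullback.of_hasPullback fW ((Spec (CommRingCat.of A)).fromSpecResidueField (fW (j x)))).paste_horiz hsq
  obtain ⟨u, hu, hpu⟩ := FibDim.exists_generization_lift h'.flip (x' := fW.asFiber (j x)) (b := z₀)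
    (by show z₀ ⤳ pW (fW.fiberι (fW (j x)) (fW.asFiber (j x))); rw [Scheme.Hom.fiberι_asFiber]; exact hz₀)
    (by show f₀ z₀ = f₀ (pW (fW.fiberι (fW (j x)) (fW.asFiber (j x)))); rw [Scheme.Hom.fiberι_asFiber]; exact hfz₀)
  let u' : W := fW.fiberι (fW (j x)) u
  have hu' : u' ⤳ j x := by
    have := hu.map (fW.fiberι (fW (j x))).continuous; rwa [Scheme.Hom.fiberι_asFiber] at this
  have hfu : fW u' = f x := by rw [FibDim.fiber_apply_fiberι, hfj]
  obtain ⟨w, hwu, hfw, hwmax, -⟩ := FibDim.exists_fibMax_generization fW u'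
  obtain ⟨v, rfl⟩ := hrangej w (Or.inl (hfw.trans hfu))
  have hcw : ∀ w, f₀ (pW w) = Spec.map (CommRingCat.ofHom (algebraMap A₀ A)) (fW w) := fun w => by
    rw [← Scheme.Hom.comp_apply, hsq.w, Scheme.Hom.comp_apply]
  have hpw : pW (j v) = z₀ := hmax₀ _ (hpu ▸ hwu.map pW.continuous)
    (by rw [hcw, hfw, hfu, ← hfj, ← hcw]; exact hfz₀.symm)
  refine hcomp v ((hjsp _ _).1 (hwu.trans hu')) (by rw [← hfj, hfw, hfu]) (fun v' hv' hfv' => ?_) ?_
  · exact j.isEmbedding.injective (hwmax _ ((hjsp _ _).2 hv') (by rw [hfj, hfv', hfj]))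
  · rw [← hg₀, ← hval, hpw]; exact hgz₀

end Groth.Agent.LocDimFormula
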