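import Groth.Agent.LocDimFormula.Horizontal

/-! The dimension formula for essentially finite type local domains. -/

set_option autoImplicit false
universe u

namespace Groth.Agent.LocDimFormula

open AlgebraicGeometry CategoryTheory TensorProduct IsLocalRing
open Groth.Agent.ValPrufer.DimFun (str)

variable (A B : Type u) [CommRing A] [CommRing B] [IsDomain A] [IsDomain B] [IsLocalRing A] [IsLocalRing B]
  [Algebra A B] [IsLocalHom (algebraMap A B)] [FaithfulSMul A B] [Algebra.EssFiniteType A B]

/-- The finite type model. -/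
noncomputable abbrev model : Subalgebra A B := Algebra.EssFiniteType.subalgebra A B

/-- The point of the model at the maximal ideal. -/
noncomputable def pt : PrimeSpectrum (model A B) :=
  ⟨(maximalIdeal B).comap (algebraMap (model A B) B), inferInstance⟩

instance : IsLocalization.AtPrime B (pt A B).asIdeal := by
  have h : (pt A B).asIdeal.primeCompl = Algebra.EssFiniteType.submonoid A B := by
    ext x
    show algebraMap _ B x ∉ maximalIdeal B ↔ IsUnit (algebraMap _ B x)
    exact IsLocalRing.notMem_maximalIdeal
  unfold IsLocalization.AtPrime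
  rw [h]
  exact Algebra.EssFiniteType.isLocalization A B

theorem algebraMap_injective : Function.Injective (algebraMap A (model A B)) := fun a b h =>
  FaithfulSMul.algebraMap_injective A B (congrArg Subtype.val h)

theorem under_pt : (pt A B).asIdeal.under A = maximalIdeal A := by
  show ((maximalIdeal B).comap (algebraMap (model A B) B)).comap (algebraMap A (model A B)) = _
  rw [Ideal.comap_comap, ← IsScalarTower.algebraMap_eq]
  exact ((local_hom_TFAE (algebraMap A B)).out 0 4).mp ‹IsLocalHom (algebraMap A B)›

theorem rd_gen : (FibDim.rd (str A (model A B)) (gen (model A B)) : Cardinal.{u}) = Algebra.trdeg A B := by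
  haveI : FaithfulSMul A (model A B) :=
    (faithfulSMul_iff_algebraMap_injective _ _).2 (algebraMap_injective A B)
  haveI : FaithfulSMul (model A B) B :=
    (faithfulSMul_iff_algebraMap_injective _ _).2 Subtype.val_injective
  rw [show (gen (model A B)) = ((⟨⊥, Ideal.isPrime_bot⟩ : PrimeSpectrum (model A B)) :
    Spec (CommRingCat.of (model A B))) from rfl, Groth.Agent.ValPrufer.DimFun.rd_eq_fd,
    DimFormula.fd_bot_eq_trdeg, trdeg_eq_of_isLocalization (L := B) (pt A B).asIdeal.primeCompl]

theorem rd_pt :
    (FibDim.rd (str A (model A B)) (pt A B : Spec (CommRingCat.of (model A B))) : Cardinal.{u}) =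
      Algebra.trdeg (ResidueField A) (ResidueField B) := by
  letI : Algebra (A ⧸ maximalIdeal A) (ResidueField B) :=
    (inferInstance : Algebra (ResidueField A) (ResidueField B))
  haveI : IsScalarTower A (A ⧸ maximalIdeal A) (ResidueField B) :=
    (inferInstance : IsScalarTower A (ResidueField A) (ResidueField B))
  refine rd_eq_trdeg (pt A B) (maximalIdeal A) (under_pt A B) (ResidueField B) ?_ ?_
  · rw [IsScalarTower.algebraMap_eq (model A B) B (ResidueField B), ← RingHom.comap_ker,
      IsLocalRing.ResidueField.algebraMap_eq, IsLocalRing.ker_residue]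
    rfl
  · intro z
    obtain ⟨z, rfl⟩ := residue_surjective z
    obtain ⟨⟨a, b⟩, h⟩ := IsLocalization.surj (pt A B).asIdeal.primeCompl z
    refine ⟨a, b, ?_, ?_⟩
    · rw [IsScalarTower.algebraMap_apply (model A B) B (ResidueField B)]
      exact fun h0 => b.2 ((residue_eq_zero_iff _).mp h0)
    · rw [IsScalarTower.algebraMap_apply (model A B) B (ResidueField B),
        IsScalarTower.algebraMap_apply (model A B) B (ResidueField B) a, IsLocalRing.ResidueField.algebraMap_eq,
        ← map_mul, h]

theorem fb_pt :
    ringKrullDim (B ⧸ (maximalIdeal A).map (algebraMap A B)) =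
      (DimFormula.fb (str A (model A B)) (pt A B : Spec (CommRingCat.of (model A B))) : WithBot ℕ∞) := by
  rw [← fb_eq (pt A B) B, under_pt]

/-- The dimension formula in the flat case. -/
theorem exists_dim [Module.Flat A B] :
    ∃ d e : ℕ, ringKrullDim (B ⧸ (maximalIdeal A).map (algebraMap A B)) = d ∧
      Algebra.trdeg (ResidueField A) (ResidueField B) = e ∧ Algebra.trdeg A B = (d + e : ℕ) := by
  refine ⟨_, _, fb_pt A B, (rd_pt A B).symm, ?_⟩
  rw [← rd_gen]
  have h := fibreDimAt_eq (algebraMap_injective A B) (pt A B) B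
  rw [DimFormula.fibreDimAt_eq_add] at h
  have h' : FibDim.rd (str A (model A B)) (pt A B : Spec (CommRingCat.of (model A B))) +
      DimFormula.fb (str A (model A B)) (pt A B : Spec (CommRingCat.of (model A B))) =
      FibDim.rd (str A (model A B)) (gen (model A B)) := by exact_mod_cast h
  rw [add_comm, h']

/-- Horizontal elements. -/
theorem injective_quotient (g : B) (hg : g ∈ maximalIdeal B)
    (hmin : ∀ q ∈ ((maximalIdeal A).map (algebraMap A B)).minimalPrimes, g ∉ q)
    (d e : ℕ) (hd : ringKrullDim (B ⧸ (maximalIdeal A).map (algebraMap A B)) = d)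
    (he : Algebra.trdeg (ResidueField A) (ResidueField B) = e) (hsum : Algebra.trdeg A B = (d + e : ℕ)) :
    Function.Injective (algebraMap A (B ⧸ Ideal.span {g})) := by
  rw [← rd_gen, Nat.cast_inj] at hsum
  rw [← rd_pt, Nat.cast_inj] at he
  have hd' : DimFormula.fb (str A (model A B)) (pt A B : Spec (CommRingCat.of (model A B))) = d := by
    rw [fb_pt] at hd; exact_mod_cast hd
  obtain ⟨⟨g₁, t⟩, ht⟩ := IsLocalization.surj (pt A B).asIdeal.primeCompl g
  have htu : IsUnit (algebraMap (model A B) B t) := IsLocalization.map_units B t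
  rw [injective_iff_map_eq_zero]
  intro a ha
  rw [IsScalarTower.algebraMap_apply A B (B ⧸ Ideal.span {g})] at ha
  obtain ⟨b, hb⟩ := Ideal.mem_span_singleton'.1 (Ideal.Quotient.eq_zero_iff_mem.1 ha)
  obtain ⟨⟨b₁, v⟩, hv⟩ := IsLocalization.surj (pt A B).asIdeal.primeCompl b
  have hinjB : Function.Injective (algebraMap (model A B) B) := Subtype.val_injective
  have hg₁ : g₁ ∈ (pt A B).asIdeal := by
    show algebraMap _ B g₁ ∈ maximalIdeal B
    rw [← ht]; exact Ideal.mul_mem_right _ _ hg
  refine eq_zero_of_mul_eq (algebraMap_injective A B) (pt A B : Spec (CommRingCat.of (model A B))) ?_ g₁ hg₁ ?_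
    a (t.1 * v.1) b₁ ((pt A B).asIdeal.primeCompl.mul_mem t.2 v.2) (hinjB ?_)
  · rw [DimFormula.fibreDimAt_eq_add, he, hd', hsum, add_comm]
  · intro z hz hfz hmax hgz
    let P := PrimeSpectrum.asIdeal z
    haveI : P.IsPrime := PrimeSpectrum.isPrime z
    have hle : P ≤ (pt A B).asIdeal :=
      (PrimeSpectrum.le_iff_specializes (z : PrimeSpectrum (model A B)) (pt A B)).2 hz
    have hdisj : Disjoint ((pt A B).asIdeal.primeCompl : Set (model A B)) (P : Set (model A B)) :=
      Set.disjoint_left.2 fun x hx hx' => hx (hle hx')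
    have hPu : P.under A = maximalIdeal A :=
      (congrArg PrimeSpectrum.asIdeal hfz).trans (under_pt A B)
    refine hmin (P.map (algebraMap (model A B) B))
      ⟨⟨IsLocalization.isPrime_of_isPrime_disjoint _ B _ ‹_› hdisj, ?_⟩, ?_⟩ ?_
    · rw [← hPu, IsScalarTower.algebraMap_eq A (model A B) B, ← Ideal.map_map]
      exact Ideal.map_mono Ideal.map_comap_le
    · rintro Q ⟨hQ, hmQ⟩ hQP
      haveI := hQ
      let Q' : Spec (CommRingCat.of (model A B)) :=
        (⟨Q.comap (algebraMap (model A B) B), inferInstance⟩ : PrimeSpectrum (model A B))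
      have h1 : Q.comap (algebraMap (model A B) B) ≤ P := by
        refine (Ideal.comap_mono hQP).trans (le_of_eq ?_)
        exact IsLocalization.under_map_of_isPrime_disjoint _ B ‹P.IsPrime› hdisj
      have h2 : (Q.comap (algebraMap (model A B) B)).comap (algebraMap A (model A B)) = maximalIdeal A := by
        refine le_antisymm (IsLocalRing.le_maximalIdeal (Ideal.IsPrime.ne_top inferInstance)) ?_
        rw [Ideal.comap_comap, ← IsScalarTower.algebraMap_eq]
        exact Ideal.map_le_iff_le_comap.1 hmQ
      have h3 : Q' = z := hmax Q'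
        ((PrimeSpectrum.le_iff_specializes _ (z : PrimeSpectrum (model A B))).1 h1)
        (PrimeSpectrum.ext (h2.trans hPu.symm))
      rw [show P = Q.comap (algebraMap (model A B) B) from (congrArg PrimeSpectrum.asIdeal h3).symm]
      exact Ideal.map_comap_le
    · have := Ideal.mem_map_of_mem (algebraMap (model A B) B) hgz
      rw [← ht] at this
      exact ((IsLocalization.isPrime_of_isPrime_disjoint _ B _ ‹P.IsPrime› hdisj).mem_or_mem this).resolve_right
        fun h => (IsLocalization.isPrime_of_isPrime_disjoint _ B _ ‹P.IsPrime› hdisj).ne_top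
          (Ideal.eq_top_of_isUnit_mem _ h htu)
  · simp only [map_mul, ← IsScalarTower.algebraMap_apply A (model A B) B, ← hb, ← ht, ← hv]
    ring

end Groth.Agent.LocDimFormula
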