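import Groth.Agent.LocDimFormula.Horizontal
import Groth.Agent.FDescent.MaxPoint

/-! A locally principal subscheme missing the generic fibre contains whole fibre components. -/

set_option autoImplicit false
universe u

namespace Groth.Agent.LocDimFormula

open AlgebraicGeometry CategoryTheory TopologicalSpace
open Groth.Agent.ValPrufer.DimFun (str)

set_option maxHeartbeats 1000000 in
set_option backward.isDefEq.respectTransparency.types false in
theorem exists_component {X S : Scheme.{u}} (f : X ⟶ S) [IrreducibleSpace ↑S] [IrreducibleSpace ↑X]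
    [IsDominant f] [LocallyOfFiniteType f] (s : S)
    (hdim : topologicalKrullDim ↑(f.fiber s) ≤ topologicalKrullDim ↑(f.fiber (genericPoint ↑S)))
    (Z : X.IdealSheafData)
    (hZ : ∀ x : X, ∃ (U : X.Opens) (hU : IsAffineOpen U) (g : Γ(X, U)), x ∈ U ∧ Z.ideal ⟨U, hU⟩ = Ideal.span {g})
    (hη : ∀ x ∈ (Z.support : Set ↑X), f x ≠ genericPoint ↑S) (x : X) (hx : f x = s)
    (hxZ : x ∈ (Z.support : Set ↑X)) :
    ∃ z : X, z ⤳ x ∧ f z = s ∧ FibDim.FibMax f z ∧ z ∈ (Z.support : Set ↑X) := by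
  subst hx
  by_contra hcon
  push Not at hcon
  obtain ⟨U₀, hU₀, g₀, hxU₀, hg₀⟩ := hZ x
  obtain ⟨V, hV, hxV, -⟩ := exists_isAffineOpen_mem_and_subset (x := f x) (U := ⊤) trivial
  obtain ⟨a, hle, hxa⟩ := hU₀.exists_basicOpen_le (V := f ⁻¹ᵁ V) ⟨x, hxV⟩ hxU₀
  let U : X.Opens := X.basicOpen a
  have hU : IsAffineOpen U := hU₀.basicOpen a
  have hUU₀ : U ≤ U₀ := X.basicOpen_le a
  let g : Γ(X, U) := X.presheaf.map (homOfLE hUU₀).op g₀
  have hsupp : ∀ y ∈ U, (y ∈ (Z.support : Set ↑X) ↔ y ∉ X.basicOpen g) := by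
    intro y hy
    have h1 : y ∈ (Z.support : Set ↑X) ↔ y ∈ (Z.support : Set ↑X) ∩ U₀ := by simp [hUU₀ hy]
    rw [h1, Scheme.IdealSheafData.coe_support_inter Z ⟨U₀, hU₀⟩, hg₀, Scheme.basicOpen_res]
    simp [Scheme.zeroLocus_span, Scheme.zeroLocus_singleton, hy, hUU₀ hy]
  let φ := f.appLE V U hle
  letI : Algebra Γ(S, V) Γ(X, U) := φ.hom.toAlgebra
  haveI : Algebra.FiniteType Γ(S, V) Γ(X, U) := f.finiteType_appLE hV hU hle
  let ηX := genericPoint ↑X
  let ηS := genericPoint ↑S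
  have hηX : ηX ∈ U := ((genericPoint_spec ↑X).specializes (Set.mem_univ x)).mem_open U.isOpen hxa
  have hηS : ηS ∈ V := ((genericPoint_spec ↑S).specializes (Set.mem_univ (f x))).mem_open V.isOpen hxV
  have hfη : f ηX = ηS := by
    have h1 : closure {f ηX} = (Set.univ : Set ↑S) := by
      rw [← Set.image_singleton, ← closure_image_closure f.continuous, (genericPoint_spec ↑X).def,
        Set.image_univ]
      exact f.denseRange.closure_range
    exact ((show IsGenericPoint (f ηX) Set.univ from h1).eq (genericPoint_spec ↑S))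
  let Q := hU.primeIdealOf ⟨ηX, hηX⟩
  let P := hV.primeIdealOf ⟨ηS, hηS⟩
  have hQP : Q.asIdeal.comap (algebraMap Γ(S, V) Γ(X, U)) = P.asIdeal := by
    have h1 : PrimeSpectrum.comap φ.hom Q = P := hV.fromSpec.isOpenEmbedding.injective (by
      rw [← FibDim.fromSpec_comm f hV hU hle, hU.fromSpec_primeIdealOf, hV.fromSpec_primeIdealOf]
      exact hfη)
    exact congrArg PrimeSpectrum.asIdeal h1
  let A := Γ(S, V) ⧸ P.asIdeal
  let C := Γ(X, U) ⧸ Q.asIdeal
  letI : Algebra A C := (Ideal.quotientMap Q.asIdeal (algebraMap Γ(S, V) Γ(X, U)) hQP.ge).toAlgebra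
  haveI : IsScalarTower Γ(S, V) A C := IsScalarTower.of_algebraMap_eq fun _ => rfl
  haveI : Algebra.FiniteType A C := Algebra.FiniteType.of_restrictScalars_finiteType Γ(S, V) A C
  have hinj : Function.Injective (algebraMap A C) := Ideal.quotientMap_injective' hQP.le
  let f' := str A C
  let jX : Spec (CommRingCat.of C) → X := fun w =>
    hU.fromSpec (PrimeSpectrum.comap (Ideal.Quotient.mk Q.asIdeal) w)
  let jS : Spec (CommRingCat.of A) → S := fun w =>
    hV.fromSpec (PrimeSpectrum.comap (Ideal.Quotient.mk P.asIdeal) w)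
  have hcomm : ∀ w, f (jX w) = jS (f' w) := fun w => FibDim.fromSpec_comm f hV hU hle _
  have hjS : Function.Injective jS := hV.fromSpec.isOpenEmbedding.injective.comp
    (PrimeSpectrum.comap_injective_of_surjective _ Ideal.Quotient.mk_surjective)
  have hjXe : Topology.IsEmbedding jX := hU.fromSpec.isOpenEmbedding.isEmbedding.comp
    (PrimeSpectrum.isClosedEmbedding_comap_of_surjective _ _ Ideal.Quotient.mk_surjective).isEmbedding
  have hrange : ∀ y ∈ U, y ∈ Set.range jX := fun y hy => by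
    have hle' : Q.asIdeal ≤ (hU.primeIdealOf ⟨y, hy⟩).asIdeal :=
      (VarDim.fromSpec_specializes_iff hU Q _).1 (by
        rw [hU.fromSpec_primeIdealOf, hU.fromSpec_primeIdealOf]
        exact (genericPoint_spec ↑X).specializes (Set.mem_univ y))
    obtain ⟨w, hw⟩ : hU.primeIdealOf ⟨y, hy⟩ ∈ Set.range (PrimeSpectrum.comap (Ideal.Quotient.mk Q.asIdeal)) := by
      rw [range_comap_of_surjective _ _ Ideal.Quotient.mk_surjective, PrimeSpectrum.mem_zeroLocus, Ideal.mk_ker]
      exact hle'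
    exact ⟨w, by show hU.fromSpec _ = y; rw [hw, hU.fromSpec_primeIdealOf]⟩
  have hrd : ∀ w, FibDim.rd f' w = FibDim.rd f (jX w) := fun w => by
    rw [DimFormula.rd_eq_fd f hV hU hle, Groth.Agent.ValPrufer.DimFun.rd_eq_fd,
      DimFormula.fd_base_quotient (A := Γ(S, V)) Ideal.Quotient.mk_surjective]
    exact (DimFormula.fd_comap_of_surjective (A := Γ(S, V)) (Ideal.Quotient.mkₐ Γ(S, V) Q.asIdeal)
      Ideal.Quotient.mk_surjective _).symm
  have hjgen : jX (gen C) = ηX := by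
    show hU.fromSpec _ = _
    rw [show PrimeSpectrum.comap (Ideal.Quotient.mk Q.asIdeal) (gen C) = Q from
      PrimeSpectrum.ext Ideal.mk_ker, hU.fromSpec_primeIdealOf]
  have hjgenS : jS (gen A) = ηS := by
    show hV.fromSpec _ = _
    rw [show PrimeSpectrum.comap (Ideal.Quotient.mk P.asIdeal) (gen A) = P from
      PrimeSpectrum.ext Ideal.mk_ker, hV.fromSpec_primeIdealOf]
  obtain ⟨x', hx'⟩ := hrange x hxa
  have hsp : ∀ v w, v ⤳ w → jX v ⤳ jX w := fun v w h => h.map hjXe.continuous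
  have hnd : FlatMor.fibreDimAt f' x' = ((FibDim.rd f' (gen C) : ℕ∞) : WithBot ℕ∞) := by
    refine le_antisymm ?_ (FibDim.fibreDimAt_ge_rd f' (gen_specializes x'))
    obtain ⟨w, -, hfw, -, he⟩ := FibDim.exists_fibMax_generization f' x'
    rw [he, hrd, hrd, hjgen]
    have h1 : ((FibDim.rd f (jX w) : ℕ∞) : WithBot ℕ∞) ≤ topologicalKrullDim ↥(f.fiber (f x)) := by
      rw [FibDim.topologicalKrullDim_fiber]
      refine le_iSup_of_le ⟨jX w, ?_⟩ le_rfl
      show f (jX w) = f x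
      rw [hcomm, hfw, ← hcomm, hx']
    refine h1.trans (hdim.trans ?_)
    rw [FibDim.topologicalKrullDim_fiber]
    refine iSup_le fun v => ?_
    have := FibDim.rd_le_of_specializes f ((genericPoint_spec ↑X).specializes (Set.mem_univ v.1))
      (hfη.trans v.2.symm)
    exact_mod_cast this
  have hmemg : ∀ w, Ideal.Quotient.mk Q.asIdeal g ∈ PrimeSpectrum.asIdeal w ↔ jX w ∈ (Z.support : Set ↑X) := by
    intro w
    have hwU : jX w ∈ U := VarDim.fromSpec_mem hU _
    rw [hsupp _ hwU]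
    have h1 : jX w ∈ X.basicOpen g ↔
        g ∉ (PrimeSpectrum.comap (Ideal.Quotient.mk Q.asIdeal) w).asIdeal := by
      show (PrimeSpectrum.comap (Ideal.Quotient.mk Q.asIdeal) w : Spec Γ(X, U)) ∈
        hU.fromSpec ⁻¹ᵁ X.basicOpen g ↔ _
      rw [hU.fromSpec_preimage_basicOpen]
      exact Iff.rfl
    rw [h1, not_not]
    exact Iff.rfl
  -- `g` is invertible on the generic fibre
  let M := (nonZeroDivisors A).map (algebraMap A C)
  obtain ⟨c, a', ha', hac⟩ : ∃ (c : C) (a' : A), a' ≠ 0 ∧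
      algebraMap A C a' * 1 = Ideal.Quotient.mk Q.asIdeal g * c := by
    by_contra hno
    push Not at hno
    have hdisj : Disjoint (M : Set C) (Ideal.span {Ideal.Quotient.mk Q.asIdeal g} : Set C) := by
      rw [Set.disjoint_left]
      rintro _ ⟨a', ha', rfl⟩ hmem
      obtain ⟨c, hc⟩ := Ideal.mem_span_singleton'.1 hmem
      exact hno c a' (nonZeroDivisors.ne_zero ha') (by rw [mul_one, mul_comm, hc])
    obtain ⟨R, hR, hgR, hRdisj⟩ := Ideal.exists_le_prime_disjoint _ M hdisj.symm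
    let r : Spec (CommRingCat.of C) := (⟨R, hR⟩ : PrimeSpectrum C)
    have hfr : f' r = gen A := PrimeSpectrum.ext (le_antisymm (fun a' ha' => by
      by_contra h
      exact Set.disjoint_left.1 hRdisj ha' ⟨a', mem_nonZeroDivisors_of_ne_zero h, rfl⟩) bot_le)
    refine hη (jX r) ((hmemg r).1 (hgR (Ideal.mem_span_singleton_self _))) ?_
    rw [hcomm, hfr, hjgenS]
  refine ha' (eq_zero_of_mul_eq hinj x' hnd (Ideal.Quotient.mk Q.asIdeal g)
    ((hmemg x').2 (hx' ▸ hxZ)) (fun w hw hfw hmax hgw => ?_) a' 1 c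
    (fun h => (PrimeSpectrum.isPrime x').ne_top ((Ideal.eq_top_iff_one _).2 h)) hac)
  refine hcon (jX w) (hx' ▸ hsp _ _ hw) (by rw [hcomm, hfw, ← hcomm, hx']) (fun v hv hfv => ?_) ((hmemg w).1 hgw)
  obtain ⟨v', rfl⟩ := hrange v (hv.mem_open U.isOpen (VarDim.fromSpec_mem hU _))
  rw [hmax v' (hjXe.isInducing.specializes_iff.1 hv) (hjS (by rw [← hcomm, hfv, hcomm]))]

theorem exists_irreducibleComponent {X S : Scheme.{u}} (f : X ⟶ S) [LocallyOfFiniteType f] (s : S)
    (Z : X.IdealSheafData) (x : ↑(f ⁻¹' {s})) (z : X) (hz : z ⤳ x) (hfz : f z = s) (hmax : FibDim.FibMax f z)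
    (hzZ : z ∈ (Z.support : Set ↑X)) :
    ∃ C ∈ irreducibleComponents ↑(f ⁻¹' {s}), x ∈ C ∧ Subtype.val '' C ⊆ (Z.support : Set ↑X) := by
  haveI : QuasiSober ↑(f ⁻¹' {s}) := (f.fiberHomeo s).symm.isClosedEmbedding.quasiSober
  let z' : ↑(f ⁻¹' {s}) := ⟨z, hfz⟩
  refine ⟨closure {z'}, FDescent.closure_mem_irreducibleComponents fun y hy => Subtype.ext
    (hmax _ (hy.map continuous_subtype_val) (y.2.trans hfz.symm)), ?_, ?_⟩
  · exact specializes_iff_mem_closure.1 ((subtype_specializes_iff _ _).2 hz)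
  · rintro _ ⟨y, hy, rfl⟩
    exact ((specializes_iff_mem_closure.2 hy).map continuous_subtype_val).mem_closed Z.support.isClosed hzZ

end Groth.Agent.LocDimFormula
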